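import Groth.Agent.PinchHom.Main
import Groth.Agent.H23.Frame
import Groth.Agent.QCoh.ClosedPush

/-!
# Frames: change of frame along a closed immersion, morphisms preserving frames
-/

universe u

set_option autoImplicit false
set_option linter.style.haveILetI false
set_option backward.isDefEq.respectTransparency false
set_option backward.isDefEq.respectTransparency.types false
set_option synthInstance.maxHeartbeats 400000

open CategoryTheory CategoryTheory.Limits AlgebraicGeometry TopologicalSpace Opposite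

noncomputable section

namespace Groth.Agent.PinchEss

open Groth.Agent.AModX Groth.Agent.PinchHom

variable {X Z : Scheme.{u}} {n : ℕ}

theorem exists_nframe_rank {M : X.Modules} (hM : FlatMod.IsFinLocFreeOfRank n M) (x : X) :
    ∃ (U : X.Opens) (e : Fin n → Γ(M, U)), x ∈ U ∧ IsNFrame e := by
  obtain ⟨U, hx, ⟨i⟩⟩ := hM x
  obtain ⟨e, he⟩ := H23.Frame.exists_frame i
  exact ⟨U, e, hx, he⟩

theorem isFinLocFreeOfRank_of_nframes {M : X.Modules}
    (h : ∀ x : X, ∃ (U : X.Opens) (e : Fin n → Γ(M, U)), x ∈ U ∧ IsNFrame e) :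
    FlatMod.IsFinLocFreeOfRank n M := fun x =>
  let ⟨U, e, hx, he⟩ := h x
  ⟨U, hx, H23.Frame.exists_iso_of_frame e he⟩

theorem isFinLocFree_of_rank {M : X.Modules} (h : FlatMod.IsFinLocFreeOfRank n M) : FlatMod.IsFinLocFree M :=
  fun x => let ⟨U, hx, hi⟩ := h x; ⟨U, n, hx, hi⟩

theorem subsingleton_sections_bot (M : X.Modules) : Subsingleton Γ(M, (⊥ : X.Opens)) :=
  ⟨fun _ _ => eq_of_locally _ _ fun _ hp => False.elim hp⟩

theorem isNFrame_bot (M : X.Modules) {U : X.Opens} (hU : U = ⊥) (e : Fin n → Γ(M, U)) : IsNFrame e :=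
  isNFrame_of_local e fun _ _ hp hle => False.elim (show _ ∈ (⊥ : X.Opens) from hU ▸ hle hp)

/-- A morphism sending frames to frames is an isomorphism. -/
theorem isIso_of_nframes {A B : X.Modules} (φ : A ⟶ B)
    (h : ∀ x : X, ∃ (U : X.Opens) (e : Fin n → Γ(A, U)), x ∈ U ∧ IsNFrame e ∧
      IsNFrame (fun i => φ.app U (e i))) : IsIso φ := by
  refine QCoh.isIso_of_isBasis φ (B := {W : X.Opens | ∃ (U : X.Opens) (e : Fin n → Γ(A, U)), W ≤ U ∧
    IsNFrame e ∧ IsNFrame (fun i => φ.app U (e i))}) ?_ ?_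
  · refine Opens.isBasis_iff_nbhd.2 fun {V p} hp => ?_
    obtain ⟨U, e, hpU, he, he'⟩ := h p
    exact ⟨V ⊓ U, ⟨U, e, inf_le_right, he, he'⟩, ⟨hp, hpU⟩, inf_le_left⟩
  · rintro W ⟨U, e, hW, he, he'⟩
    have key : (fun z => φ.app W z) ∘ (fun c : Fin n → Γ(X, W) => ∑ i, c i • res A hW (e i)) =
        fun c => ∑ i, c i • res B hW (φ.app U (e i)) := by
      funext c
      simp only [Function.comp, map_sum]
      exact Finset.sum_congr rfl fun i _ => by rw [Scheme.Modules.Hom.app_smul, app_res]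
    exact (Function.Bijective.of_comp_iff _ (he W hW)).1 (key ▸ he' W hW)

theorem bijective_vecMul {R : Type*} [CommRing R] {A : Matrix (Fin n) (Fin n) R} (hA : IsUnit A) :
    Function.Bijective fun c : Fin n → R => Matrix.vecMul c A := by
  obtain ⟨B, hAB, hBA⟩ := isUnit_iff_exists.1 hA
  exact Function.bijective_iff_has_inverse.2 ⟨fun c => Matrix.vecMul c B,
    fun c => by simp only [Matrix.vecMul_vecMul, hAB, Matrix.vecMul_one],
    fun c => by simp only [Matrix.vecMul_vecMul, hBA, Matrix.vecMul_one]⟩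

/-- Change of frame by an invertible matrix. -/
theorem isNFrame_of_matrix {M : X.Modules} {U : X.Opens} {b s : Fin n → Γ(M, U)} (hb : IsNFrame b)
    (A : Matrix (Fin n) (Fin n) Γ(X, U)) (hA : IsUnit A) (hs : ∀ i, s i = ∑ j, A i j • b j) : IsNFrame s := by
  intro V h
  let A' : Matrix (Fin n) (Fin n) Γ(X, V) := A.map (resR h)
  have hA' : IsUnit A' := hA.map (resR h).mapMatrix
  have key : (fun c : Fin n → Γ(X, V) => ∑ i, c i • res M h (s i)) =
      (fun c : Fin n → Γ(X, V) => ∑ j, c j • res M h (b j)) ∘ fun c => Matrix.vecMul c A' := by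
    funext c
    simp only [Function.comp, Matrix.vecMul, dotProduct, Finset.sum_smul]
    rw [Finset.sum_comm]
    refine Finset.sum_congr rfl fun i _ => ?_
    rw [hs i, map_sum, Finset.smul_sum]
    exact Finset.sum_congr rfl fun j _ => by rw [res_smul, smul_smul]; rfl
  rw [key]
  exact (hb V h).comp (bijective_vecMul hA')

/-- A change of frames between two frames is invertible. -/
theorem isUnit_matrix {M : X.Modules} {U : X.Opens} {b s : Fin n → Γ(M, U)} (hb : IsNFrame b) (hs : IsNFrame s)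
    (A : Matrix (Fin n) (Fin n) Γ(X, U)) (h : ∀ i, s i = ∑ j, A i j • b j) : IsUnit A := by
  refine Matrix.vecMul_surjective_iff_isUnit.1 (Function.Bijective.surjective ?_)
  have key : (fun c : Fin n → Γ(X, U) => ∑ i, c i • res M (le_refl U) (s i)) =
      (fun c : Fin n → Γ(X, U) => ∑ j, c j • res M (le_refl U) (b j)) ∘ fun c => Matrix.vecMul c A := by
    funext c
    simp only [Function.comp, Matrix.vecMul, dotProduct, Finset.sum_smul, res_self]
    rw [Finset.sum_comm]
    refine Finset.sum_congr rfl fun i _ => ?_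
    rw [h i, Finset.smul_sum]
    exact Finset.sum_congr rfl fun j _ => by rw [smul_smul]
  exact (Function.Bijective.of_comp_iff' (hb U le_rfl) _).1 (key ▸ hs U le_rfl)

/-- Sections whose inverse images form a frame form a frame near the image. -/
theorem isNFrame_near_of_pullSec (φ : Z ⟶ X) {M : X.Modules} (hM : FlatMod.IsFinLocFreeOfRank n M)
    {U : X.Opens} (s : Fin n → Γ(M, U))
    (hs : IsNFrame (M := (Scheme.Modules.pullback φ).obj M)
      (fun i => QCoh.pullSec φ M (le_refl (φ ⁻¹ᵁ U)) (s i)))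
    (z : Z) (hz : φ z ∈ U) :
    ∃ (G : X.Opens) (hG : G ≤ U), φ z ∈ G ∧ IsNFrame (fun i => res M hG (s i)) := by
  obtain ⟨B, b, hzB, hb⟩ := exists_nframe_rank hM (φ z)
  have hq := QCoh.isQCoh_of_isFinLocFree (isFinLocFree_of_rank hM)
  let Q : X.Opens := U ⊓ B
  let b' : Fin n → Γ(M, Q) := fun i => res M inf_le_right (b i)
  have hb' : IsNFrame b' := hb.res' inf_le_right
  have hA : ∀ i, ∃ a : Fin n → Γ(X, Q), (res M (inf_le_left : Q ≤ U) (s i)) = ∑ j, a j • b' j := fun i => by
    obtain ⟨a, ha⟩ := (hb' Q le_rfl).2 (res M inf_le_left (s i))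
    exact ⟨a, ha.symm.trans (Finset.sum_congr rfl fun j _ => by rw [res_self])⟩
  choose a ha using hA
  let A : Matrix (Fin n) (Fin n) Γ(X, Q) := fun i j => a i j
  have hbZ := isNFrame_pullSec φ hq hb' (le_refl (φ ⁻¹ᵁ Q))
  have hsZ := hs.res' ((Opens.map φ.base).monotone (inf_le_left : Q ≤ U))
  have hu : IsUnit (A.map (φ.app Q)) := by
    refine isUnit_matrix hbZ hsZ _ fun i => ?_
    show res _ _ (QCoh.pullSec φ M (le_refl (φ ⁻¹ᵁ U)) (s i)) = _
    rw [pullSec_res_full φ M (inf_le_left : Q ≤ U), ha i, pullSec_comb]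
    refine Finset.sum_congr rfl fun j _ => ?_
    rw [← Scheme.Hom.app_eq_appLE]
    rfl
  have hdet : IsUnit (φ.app Q A.det) := by
    have h1 := (Matrix.isUnit_iff_isUnit_det _).1 hu
    rwa [show (A.map (φ.app Q)) = (φ.app Q).hom.mapMatrix A from rfl, ← RingHom.map_det] at h1
  have hzd : φ z ∈ X.basicOpen A.det := by
    have h2 : z ∈ φ ⁻¹ᵁ X.basicOpen A.det := by
      rw [Scheme.preimage_basicOpen, Scheme.basicOpen_of_isUnit _ hdet]
      exact ⟨hz, hzB⟩
    exact h2
  refine ⟨X.basicOpen A.det, (X.basicOpen_le _).trans inf_le_left, hzd, ?_⟩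
  refine isNFrame_of_matrix (hb'.res' (X.basicOpen_le A.det)) (A.map (resR (X.basicOpen_le A.det))) ?_ fun i => ?_
  · rw [Matrix.isUnit_iff_isUnit_det, show A.map (resR (X.basicOpen_le A.det)) =
      (resR (X.basicOpen_le A.det)).mapMatrix A from rfl, ← RingHom.map_det]
    exact isUnit_resR _ _ le_rfl
  · rw [← res_res (inf_le_left : Q ≤ U) (X.basicOpen_le A.det), ha i, map_sum]
    exact Finset.sum_congr rfl fun j _ => res_smul _ _ _

/-- The largest open on which given sections form a frame. -/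
theorem exists_max_nframe {M : X.Modules} {U : X.Opens} (s : Fin n → Γ(M, U)) :
    ∃ (G : X.Opens) (hG : G ≤ U), IsNFrame (fun i => res M hG (s i)) ∧
      ∀ (G' : X.Opens) (h : G' ≤ U), IsNFrame (fun i => res M h (s i)) → G' ≤ G := by
  let G : X.Opens := ⨆ (G' : X.Opens) (h : G' ≤ U) (_ : IsNFrame (fun i => res M h (s i))), G'
  have hG : G ≤ U := iSup_le fun _ => iSup_le fun h => iSup_le fun _ => h
  refine ⟨G, hG, isNFrame_of_local _ fun V p hp hV => ?_,
    fun G' h hf => le_iSup_of_le G' (le_iSup_of_le h (le_iSup_of_le hf le_rfl))⟩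
  have hpG : p ∈ G := hV hp
  simp only [G, Opens.mem_iSup] at hpG
  obtain ⟨G', h, hf, hpG'⟩ := hpG
  refine ⟨V ⊓ G', inf_le_left.trans hV, ⟨hp, hpG'⟩, inf_le_left, ?_⟩
  have := hf (V ⊓ G') inf_le_right
  simpa only [res_res] using this

end Groth.Agent.PinchEss
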