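import Groth.Agent.PinchEss.Basic

/-!
# The module glued from a gluing datum along a commutative square
-/

universe u

set_option autoImplicit false
set_option linter.style.haveILetI false
set_option backward.isDefEq.respectTransparency false
set_option backward.isDefEq.respectTransparency.types false
set_option synthInstance.maxHeartbeats 400000

open CategoryTheory CategoryTheory.Limits AlgebraicGeometry TopologicalSpace Opposite

noncomputable section

namespace Groth.Agent.PinchEss

open Groth.Agent.AModX Groth.Agent.PinchHom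

variable {X Y Z T : Scheme.{u}} (fX : Z ⟶ X) (fY : Z ⟶ Y) (gX : X ⟶ T) (gY : Y ⟶ T) (hw : fX ≫ gX = fY ≫ gY)
  {LX : X.Modules} {LY : Y.Modules}
  (σ : (Scheme.Modules.pullback fX).obj LX ≅ (Scheme.Modules.pullback fY).obj LY)

/-- Sections over the inverse images of an open which agree on the common inverse image. -/
def CompatPair (V : T.Opens) (x : Γ(LX, gX ⁻¹ᵁ V)) (y : Γ(LY, gY ⁻¹ᵁ V)) : Prop :=
  σ.hom.app (fX ⁻¹ᵁ (gX ⁻¹ᵁ V)) (QCoh.pullSec fX LX (le_refl _) x) =
    QCoh.pullSec fY LY (preimage_eq fX fY gX gY hw V).le y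

/-- The restriction of sections on `X` to `Z`. -/
def leftMap : (Scheme.Modules.pushforward gX).obj LX ⟶
    (Scheme.Modules.pushforward gX).obj ((Scheme.Modules.pushforward fX).obj
      ((Scheme.Modules.pullback fY).obj LY)) :=
  (Scheme.Modules.pushforward gX).map
    ((Scheme.Modules.pullbackPushforwardAdjunction fX).unit.app LX ≫
      (Scheme.Modules.pushforward fX).map σ.hom)

/-- The restriction of sections on `Y` to `Z`. -/
def rightMap : (Scheme.Modules.pushforward gY).obj LY ⟶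
    (Scheme.Modules.pushforward gX).obj ((Scheme.Modules.pushforward fX).obj
      ((Scheme.Modules.pullback fY).obj LY)) :=
  (Scheme.Modules.pushforward gY).map ((Scheme.Modules.pullbackPushforwardAdjunction fY).unit.app LY) ≫
    (Scheme.Modules.pushforwardComp fY gY).hom.app _ ≫
    (Scheme.Modules.pushforwardCongr hw.symm).hom.app _ ≫
    (Scheme.Modules.pushforwardComp fX gX).inv.app _

theorem leftMap_app (V : T.Opens) (x : Γ(LX, gX ⁻¹ᵁ V)) :
    (leftMap fX fY gX σ).app V x = σ.hom.app (fX ⁻¹ᵁ (gX ⁻¹ᵁ V)) (QCoh.pullSec fX LX (le_refl _) x) := by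
  show σ.hom.app _ _ = _
  refine congrArg _ ?_
  exact (res_self (M := (Scheme.Modules.pullback fX).obj LX)
    (((Scheme.Modules.pullbackPushforwardAdjunction fX).unit.app LX).app (gX ⁻¹ᵁ V) x)).symm

theorem rightMap_app (V : T.Opens) (y : Γ(LY, gY ⁻¹ᵁ V)) :
    (rightMap fX fY gX gY hw).app V y =
      QCoh.pullSec fY LY (preimage_eq fX fY gX gY hw V).le y :=
  rfl

/-- The glued module. -/
def glue : T.Modules :=
  Limits.pullback (leftMap fX fY gX σ) (rightMap fX fY gX gY hw (LY := LY))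

/-- The projection to the module on `X`. -/
def prX : glue fX fY gX gY hw σ ⟶ (Scheme.Modules.pushforward gX).obj LX := pullback.fst _ _

/-- The projection to the module on `Y`. -/
def prY : glue fX fY gX gY hw σ ⟶ (Scheme.Modules.pushforward gY).obj LY := pullback.snd _ _

/-- Sections over an open, as a functor to types. -/
abbrev secFun (V : T.Opens) : T.Modules ⥤ Type u :=
  (Scheme.Modules.toPresheaf T ⋙ (evaluation _ _).obj (op V)) ⋙ forget Ab.{u}

instance preservesLimitsOfShape_secFun (V : T.Opens) : PreservesLimitsOfShape WalkingCospan (secFun V) := by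
  haveI : PreservesLimitsOfShape WalkingCospan (Scheme.Modules.toPresheaf T) := inferInstance
  haveI : PreservesLimitsOfShape WalkingCospan ((evaluation (T.Opens)ᵒᵖ Ab.{u}).obj (op V)) := inferInstance
  haveI : PreservesLimitsOfShape WalkingCospan (forget Ab.{u}) := inferInstance
  exact @comp_preservesLimitsOfShape _ _ _ _ _ _ _ _ _ _ (comp_preservesLimitsOfShape _ _) inferInstance

theorem isPullback_sections (V : T.Opens) :
    IsPullback ((secFun V).map (prX fX fY gX gY hw σ)) ((secFun V).map (prY fX fY gX gY hw σ))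
      ((secFun V).map (leftMap fX fY gX σ)) ((secFun V).map (rightMap fX fY gX gY hw)) :=
  (IsPullback.of_hasPullback (leftMap fX fY gX σ) (rightMap fX fY gX gY hw (LY := LY))).map _

theorem pr_condition :
    prX fX fY gX gY hw σ ≫ leftMap fX fY gX σ = prY fX fY gX gY hw σ ≫ rightMap fX fY gX gY hw :=
  pullback.condition

theorem prX_prY_compat (V : T.Opens) (m : Γ(glue fX fY gX gY hw σ, V)) :
    CompatPair fX fY gX gY hw σ V ((prX fX fY gX gY hw σ).app V m) ((prY fX fY gX gY hw σ).app V m) := by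
  have h : (leftMap fX fY gX σ).app V ((prX fX fY gX gY hw σ).app V m) =
      (rightMap fX fY gX gY hw).app V ((prY fX fY gX gY hw σ).app V m) :=
    congrArg (fun φ => Scheme.Modules.Hom.app φ V m) (pr_condition fX fY gX gY hw σ)
  unfold CompatPair
  rw [← leftMap_app fX fY gX σ V, h, rightMap_app fX fY gX gY hw V]

theorem glue_ext {V : T.Opens} (m m' : Γ(glue fX fY gX gY hw σ, V))
    (hx : (prX fX fY gX gY hw σ).app V m = (prX fX fY gX gY hw σ).app V m')
    (hy : (prY fX fY gX gY hw σ).app V m = (prY fX fY gX gY hw σ).app V m') : m = m' :=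
  Types.ext_of_isPullback (isPullback_sections fX fY gX gY hw σ V) hx hy

theorem glue_exists {V : T.Opens} (x : Γ(LX, gX ⁻¹ᵁ V)) (y : Γ(LY, gY ⁻¹ᵁ V))
    (h : CompatPair fX fY gX gY hw σ V x y) :
    ∃ m : Γ(glue fX fY gX gY hw σ, V), (prX fX fY gX gY hw σ).app V m = x ∧
      (prY fX fY gX gY hw σ).app V m = y :=
  Types.exists_of_isPullback (isPullback_sections fX fY gX gY hw σ V) x y
    ((leftMap_app fX fY gX σ V x).trans (h.trans (rightMap_app fX fY gX gY hw V y).symm))

theorem prX_smul (V : T.Opens) (r : Γ(T, V)) (m : Γ(glue fX fY gX gY hw σ, V)) :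
    ((prX fX fY gX gY hw σ).app V (r • m) : Γ(LX, gX ⁻¹ᵁ V)) =
      gX.app V r • (show Γ(LX, gX ⁻¹ᵁ V) from (prX fX fY gX gY hw σ).app V m) :=
  Scheme.Modules.Hom.app_smul (prX fX fY gX gY hw σ) r m

theorem prY_smul (V : T.Opens) (r : Γ(T, V)) (m : Γ(glue fX fY gX gY hw σ, V)) :
    ((prY fX fY gX gY hw σ).app V (r • m) : Γ(LY, gY ⁻¹ᵁ V)) =
      gY.app V r • (show Γ(LY, gY ⁻¹ᵁ V) from (prY fX fY gX gY hw σ).app V m) :=
  Scheme.Modules.Hom.app_smul (prY fX fY gX gY hw σ) r m

theorem prX_res {V V' : T.Opens} (h : V' ≤ V) (m : Γ(glue fX fY gX gY hw σ, V)) :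
    (prX fX fY gX gY hw σ).app V' (res _ h m) =
      res LX ((Opens.map gX.base).monotone h) ((prX fX fY gX gY hw σ).app V m) :=
  app_res (prX fX fY gX gY hw σ) h m

theorem prY_res {V V' : T.Opens} (h : V' ≤ V) (m : Γ(glue fX fY gX gY hw σ, V)) :
    (prY fX fY gX gY hw σ).app V' (res _ h m) =
      res LY ((Opens.map gY.base).monotone h) ((prY fX fY gX gY hw σ).app V m) :=
  app_res (prY fX fY gX gY hw σ) h m

theorem prX_comb {n : ℕ} {V V' : T.Opens} (h : V' ≤ V) (c : Fin n → Γ(T, V'))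
    (m : Fin n → Γ(glue fX fY gX gY hw σ, V)) :
    ((prX fX fY gX gY hw σ).app V' (∑ i, c i • res _ h (m i)) : Γ(LX, gX ⁻¹ᵁ V')) =
      ∑ i, gX.app V' (c i) • res LX ((Opens.map gX.base).monotone h) ((prX fX fY gX gY hw σ).app V (m i)) := by
  rw [map_sum]
  exact Finset.sum_congr rfl fun i _ =>
    (prX_smul fX fY gX gY hw σ _ _ _).trans (congrArg (gX.app V' (c i) • ·) (prX_res fX fY gX gY hw σ h (m i)))

theorem prY_comb {n : ℕ} {V V' : T.Opens} (h : V' ≤ V) (c : Fin n → Γ(T, V'))
    (m : Fin n → Γ(glue fX fY gX gY hw σ, V)) :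
    ((prY fX fY gX gY hw σ).app V' (∑ i, c i • res _ h (m i)) : Γ(LY, gY ⁻¹ᵁ V')) =
      ∑ i, gY.app V' (c i) • res LY ((Opens.map gY.base).monotone h) ((prY fX fY gX gY hw σ).app V (m i)) := by
  rw [map_sum]
  exact Finset.sum_congr rfl fun i _ =>
    (prY_smul fX fY gX gY hw σ _ _ _).trans (congrArg (gY.app V' (c i) • ·) (prY_res fX fY gX gY hw σ h (m i)))

/-- The morphism from the inverse image on `X`. -/
def eX : (Scheme.Modules.pullback gX).obj (glue fX fY gX gY hw σ) ⟶ LX :=
  ((Scheme.Modules.pullbackPushforwardAdjunction gX).homEquiv _ _).symm (prX fX fY gX gY hw σ)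

/-- The morphism from the inverse image on `Y`. -/
def eY : (Scheme.Modules.pullback gY).obj (glue fX fY gX gY hw σ) ⟶ LY :=
  ((Scheme.Modules.pullbackPushforwardAdjunction gY).homEquiv _ _).symm (prY fX fY gX gY hw σ)

theorem adjoint_app_pullSec {A B : Scheme.{u}} (φ : A ⟶ B) {M : B.Modules} {N : A.Modules}
    (p : M ⟶ (Scheme.Modules.pushforward φ).obj N) (V : B.Opens) (m : Γ(M, V)) :
    (((Scheme.Modules.pullbackPushforwardAdjunction φ).homEquiv _ _).symm p).app (φ ⁻¹ᵁ V)
      (QCoh.pullSec φ M (le_refl _) m) = p.app V m := by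
  have h := ((Scheme.Modules.pullbackPushforwardAdjunction φ).homEquiv M N).apply_symm_apply p
  rw [Adjunction.homEquiv_unit] at h
  refine Eq.trans ?_ (congr(($h).app V m))
  exact congrArg _ (res_self (M := (Scheme.Modules.pullback φ).obj M)
    (((Scheme.Modules.pullbackPushforwardAdjunction φ).unit.app M).app V m))

theorem eX_pullSec (V : T.Opens) (m : Γ(glue fX fY gX gY hw σ, V)) :
    (eX fX fY gX gY hw σ).app (gX ⁻¹ᵁ V) (QCoh.pullSec gX _ (le_refl _) m) =
      (prX fX fY gX gY hw σ).app V m :=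
  adjoint_app_pullSec gX _ V m

theorem eY_pullSec (V : T.Opens) (m : Γ(glue fX fY gX gY hw σ, V)) :
    (eY fX fY gX gY hw σ).app (gY ⁻¹ᵁ V) (QCoh.pullSec gY _ (le_refl _) m) =
      (prY fX fY gX gY hw σ).app V m :=
  adjoint_app_pullSec gY _ V m

/-- Compatibility of the two projections with the gluing datum. -/
theorem square (hM : FlatMod.IsFinLocFree (glue fX fY gX gY hw σ)) :
    (ExistEasy.squareIso hw).hom.app (glue fX fY gX gY hw σ) ≫
        (Scheme.Modules.pullback fY).map (eY fX fY gX gY hw σ) =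
      (Scheme.Modules.pullback fX).map (eX fX fY gX gY hw σ) ≫ σ.hom := by
  rw [← cancel_epi ((Scheme.Modules.pullbackComp fX gX).inv.app (glue fX fY gX gY hw σ))]
  refine hom_ext_pull (fX ≫ gX) hM _ _ fun V s => ?_
  have hc : ((Scheme.Modules.pullbackComp fX gX).inv.app (glue fX fY gX gY hw σ)).app
      ((fX ≫ gX) ⁻¹ᵁ V) (QCoh.pullSec (fX ≫ gX) _ (le_refl _) s) =
      QCoh.pullSec fX _ (le_refl (fX ⁻¹ᵁ (gX ⁻¹ᵁ V))) (QCoh.pullSec gX _ (le_refl (gX ⁻¹ᵁ V)) s) := by
    refine (congrArg (((Scheme.Modules.pullbackComp fX gX).inv.app (glue fX fY gX gY hw σ)).app _)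
      (ExistEasy.pullSec_comp fX gX (glue fX fY gX gY hw σ) (le_refl (gX ⁻¹ᵁ V))
        (le_refl (fX ⁻¹ᵁ (gX ⁻¹ᵁ V))) s).symm).trans ?_
    exact congr(($((Scheme.Modules.pullbackComp fX gX).hom_inv_id_app (glue fX fY gX gY hw σ))).app _ _)
  show ((Scheme.Modules.pullback fY).map (eY fX fY gX gY hw σ)).app _
      (((ExistEasy.squareIso hw).hom.app _).app _ (((Scheme.Modules.pullbackComp fX gX).inv.app _).app _ _)) =
    σ.hom.app _ (((Scheme.Modules.pullback fX).map (eX fX fY gX gY hw σ)).app _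
      (((Scheme.Modules.pullbackComp fX gX).inv.app _).app _ _))
  refine (congrArg (fun t => ((Scheme.Modules.pullback fY).map (eY fX fY gX gY hw σ)).app _
    (((ExistEasy.squareIso hw).hom.app _).app _ t)) hc).trans ?_
  refine Eq.trans ?_ (congrArg (fun t => σ.hom.app _
    (((Scheme.Modules.pullback fX).map (eX fX fY gX gY hw σ)).app _ t)) hc).symm
  refine (congrArg (fun t => ((Scheme.Modules.pullback fY).map (eY fX fY gX gY hw σ)).app _ t)
    (ExistEasy.squareIso_pullSec hw _ (le_refl (gX ⁻¹ᵁ V)) (le_refl _) (le_refl (gY ⁻¹ᵁ V))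
      (preimage_eq fX fY gX gY hw V).le s)).trans ?_
  refine (ExistEasy.pullSec_natural fY (eY fX fY gX gY hw σ) (preimage_eq fX fY gX gY hw V).le _).trans ?_
  refine (congrArg (QCoh.pullSec fY LY (preimage_eq fX fY gX gY hw V).le) (eY_pullSec fX fY gX gY hw σ V s)).trans ?_
  refine (prX_prY_compat fX fY gX gY hw σ V s).symm.trans ?_
  refine congrArg (σ.hom.app _) ?_
  refine (congrArg (QCoh.pullSec fX LX (le_refl _)) (eX_pullSec fX fY gX gY hw σ V s).symm).trans ?_
  exact (ExistEasy.pullSec_natural fX (eX fX fY gX gY hw σ) (le_refl _) _).symm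

end Groth.Agent.PinchEss
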