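import Groth.Agent.PinchEss.Glue

/-!
# Gluing locally free modules on a pinching
-/

universe u

set_option autoImplicit false
set_option linter.style.haveILetI false
set_option backward.isDefEq.respectTransparency false
set_option backward.isDefEq.respectTransparency.types false
set_option synthInstance.maxHeartbeats 400000

open CategoryTheory CategoryTheory.Limits AlgebraicGeometry TopologicalSpace Opposite

noncomputable section

namespace Groth.Agent.PinchEss

open Groth.Agent.AModX Groth.Agent.PinchHom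

variable {X Y Z T : Scheme.{u}} {fX : Z ⟶ X} {fY : Z ⟶ Y} {gX : X ⟶ T} {gY : Y ⟶ T}
  (hw : fX ≫ gX = fY ≫ gY)
  (hpo : IsPushout (toRS.map fX) (toRS.map fY) (toRS.map gX) (toRS.map gY))

include hpo in
/-- In a pushout along a closed immersion, a point of `X` lying over `Y` comes from `Z`. -/
theorem mem_range_of_eq [IsClosedImmersion fX] {p : X} {y : Y} (h : gX p = gY y) : ∃ z, fX z = p := by
  have h1 := ((hpo.map SheafedSpace.forgetToPresheafedSpace).map (PresheafedSpace.forget CommRingCat.{u})).map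
    (forget TopCat.{u})
  have hinj : Function.Injective fX := (IsClosedImmersion.base_closed (f := fX)).injective
  have h2 := Limits.Types.isPullback_of_isPushout h1 hinj
  obtain ⟨z, hz, -⟩ := Types.exists_of_isPullback h2 p y h
  exact ⟨z, hz⟩

/-- The largest open whose inverse image is contained in a given open, near a point whose fibre is contained in it. -/
theorem exists_open_preimage_le [IsFinite gX] {x' : T} {V : T.Opens} (hx : x' ∈ V) (G : X.Opens)
    (hfib : ∀ p : X, gX p = x' → p ∈ G) : ∃ V' : T.Opens, V' ≤ V ∧ x' ∈ V' ∧ gX ⁻¹ᵁ V' ≤ G := by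
  have hcl : IsClosed (gX '' ((G : Set X)ᶜ)) := gX.isClosedMap _ G.isOpen.isClosed_compl
  refine ⟨V ⊓ ⟨(gX '' ((G : Set X)ᶜ))ᶜ, hcl.isOpen_compl⟩, inf_le_left, ⟨hx, ?_⟩, fun p hp => ?_⟩
  · rintro ⟨p, hpG, hp⟩
    exact hpG (hfib p hp)
  · exact not_not.1 fun hpG => hp.2 ⟨p, hpG, rfl⟩

variable {n : ℕ} {LX : X.Modules} {LY : Y.Modules}
  (σ : (Scheme.Modules.pullback fX).obj LX ≅ (Scheme.Modules.pullback fY).obj LY)

theorem compatPair_res {V V' : T.Opens} (h : V' ≤ V) {x : Γ(LX, gX ⁻¹ᵁ V)} {y : Γ(LY, gY ⁻¹ᵁ V)}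
    (hc : CompatPair fX fY gX gY hw σ V x y) :
    CompatPair fX fY gX gY hw σ V' (res LX ((Opens.map gX.base).monotone h) x)
      (res LY ((Opens.map gY.base).monotone h) y) := by
  unfold CompatPair at hc ⊢
  have hle : fX ⁻¹ᵁ (gX ⁻¹ᵁ V') ≤ fX ⁻¹ᵁ (gX ⁻¹ᵁ V) :=
    (Opens.map fX.base).monotone ((Opens.map gX.base).monotone h)
  refine Eq.trans ?_ ((congrArg (res _ hle) hc).trans
    (ExistEasy.pullSec_res fY LY ((Opens.map gY.base).monotone h) hle
      (preimage_eq fX fY gX gY hw V).le (preimage_eq fX fY gX gY hw V').le y))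
  rw [← app_res σ.hom hle]
  exact congrArg (σ.hom.app _)
    (ExistEasy.pullSec_res fX LX ((Opens.map gX.base).monotone h) hle (le_refl _) (le_refl _) x).symm

/-- Compatible frames on the inverse images of a neighbourhood. -/
def HasFrames (n : ℕ) (x' : T) : Prop :=
  ∃ (V : T.Opens) (x : Fin n → Γ(LX, gX ⁻¹ᵁ V)) (y : Fin n → Γ(LY, gY ⁻¹ᵁ V)),
    x' ∈ V ∧ IsNFrame x ∧ IsNFrame y ∧ ∀ i, CompatPair fX fY gX gY hw σ V (x i) (y i)

include hpo in
theorem hasFrames_mem [IsClosedImmersion fX] [IsClosedImmersion gY] [IsFinite gX]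
    (hLX : FlatMod.IsFinLocFreeOfRank n LX) (hLY : FlatMod.IsFinLocFreeOfRank n LY) (y₀ : Y) :
    HasFrames hw σ n (gY y₀) := by
  obtain ⟨O, e, hyO, he⟩ := exists_nframe_rank hLY y₀
  obtain ⟨S, hSo, hS⟩ := (IsClosedImmersion.base_closed (f := gY)).isInducing.isOpen_iff.1 O.isOpen
  obtain ⟨_, ⟨V, hV, rfl⟩, hxV, hVS⟩ := T.isBasis_affineOpens.exists_subset_of_mem_open
    (show gY y₀ ∈ S by
      have : y₀ ∈ gY ⁻¹' S := hS ▸ hyO
      exact this) hSo
  have hVO : gY ⁻¹ᵁ V ≤ O := fun q hq => hS.le (show gY q ∈ S from hVS hq)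
  let e' : Fin n → Γ(LY, gY ⁻¹ᵁ V) := fun i => res LY hVO (e i)
  have he' : IsNFrame e' := he.res' hVO
  let A := gX ⁻¹ᵁ V
  have hA : IsAffineOpen A := hV.preimage gX
  have hW : IsAffineOpen (fX ⁻¹ᵁ A) := hA.preimage fX
  have hqX : Coh.IsQCoh LX := QCoh.isQCoh_of_isFinLocFree (isFinLocFree_of_rank hLX)
  have hqY : Coh.IsQCoh LY := QCoh.isQCoh_of_isFinLocFree (isFinLocFree_of_rank hLY)
  have hsurj : Function.Surjective (QCoh.pullSec fX LX (le_refl (fX ⁻¹ᵁ A))) := by
    refine ExistEasy.surjective_pullSec fX hqX hW hA le_rfl fun c' => ?_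
    obtain ⟨c, hc⟩ := fX.app_surjective A hA c'
    exact ⟨c, fun z => by rw [← Scheme.Hom.app_eq_appLE, hc]⟩
  have hs : ∀ i, ∃ s : Γ(LX, A), CompatPair fX fY gX gY hw σ V s (e' i) := fun i => by
    obtain ⟨s, hs⟩ := hsurj (σ.inv.app _ (QCoh.pullSec fY LY (preimage_eq fX fY gX gY hw V).le (e' i)))
    refine ⟨s, ?_⟩
    unfold CompatPair
    rw [hs]
    exact congr(($(σ.inv_hom_id)).app _ _)
  choose s hs using hs
  have hpull : IsNFrame (M := (Scheme.Modules.pullback fX).obj LX)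
      (fun i => QCoh.pullSec fX LX (le_refl (fX ⁻¹ᵁ A)) (s i)) := by
    have hfy := isNFrame_pullSec fY hqY he' (preimage_eq fX fY gX gY hw V).le
    intro W hWA
    have key : (fun z => σ.hom.app W z) ∘ (fun c : Fin n → Γ(Z, W) =>
          ∑ i, c i • res _ hWA (QCoh.pullSec fX LX (le_refl (fX ⁻¹ᵁ A)) (s i))) =
        fun c => ∑ i, c i • res _ hWA (QCoh.pullSec fY LY (preimage_eq fX fY gX gY hw V).le (e' i)) := by
      funext c
      simp only [Function.comp, map_sum]
      refine Finset.sum_congr rfl fun i _ => ?_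
      rw [Scheme.Modules.Hom.app_smul, app_res]
      exact congrArg (fun t => c i • res _ hWA t) (hs i)
    exact (Function.Bijective.of_comp_iff' (ConcreteCategory.bijective_of_isIso (σ.hom.app W)) _).1
      (key ▸ hfy W hWA)
  obtain ⟨G, hG, hGf, hGmax⟩ := exists_max_nframe s
  have hfib : ∀ p : X, gX p = gY y₀ → p ∈ G := fun p hp => by
    obtain ⟨z, rfl⟩ := mem_range_of_eq hpo hp
    obtain ⟨G', hG', hzG', hf'⟩ := isNFrame_near_of_pullSec fX hLX s hpull z
      (show gX (fX z) ∈ V by rw [hp]; exact hxV)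
    exact hGmax G' hG' hf' hzG'
  obtain ⟨V', hV', hxV', hV'G⟩ := exists_open_preimage_le hxV G hfib
  refine ⟨V', fun i => res LX ((Opens.map gX.base).monotone hV') (s i),
    fun i => res LY ((Opens.map gY.base).monotone hV') (e' i), hxV', ?_, he'.res' _,
    fun i => compatPair_res hw σ hV' (hs i)⟩
  have := hGf.res' hV'G
  simpa only [res_res] using this

theorem hasFrames_off [IsFinite gX] (U : T.Opens) (hU : (U : Set T) = (Set.range gY)ᶜ)
    (hiso : IsIso (gX ∣_ U)) (hLX : FlatMod.IsFinLocFreeOfRank n LX) (x' : T) (hx' : x' ∈ U) :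
    HasFrames hw σ n x' := by
  obtain ⟨p₀, hp₀⟩ := (ConcreteCategory.bijective_of_isIso (gX ∣_ U).base).2 ⟨x', hx'⟩
  have hfib : ∀ p : X, gX p = x' → p = p₀.1 := fun p hp => by
    have := (ConcreteCategory.bijective_of_isIso (gX ∣_ U).base).1
      (a₁ := ⟨p, show gX p ∈ U by rw [hp]; exact hx'⟩) (a₂ := p₀) (by
        rw [hp₀]
        exact Subtype.ext ((morphismRestrict_base_coe gX U _).trans hp))
    exact congrArg Subtype.val this
  obtain ⟨B, b, hpB, hb⟩ := exists_nframe_rank hLX p₀.1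
  obtain ⟨V, hVU, hxV, hVB⟩ := exists_open_preimage_le (gX := gX) hx' B fun p hp => by rw [hfib p hp]; exact hpB
  have hbot : gY ⁻¹ᵁ V = ⊥ := le_bot_iff.1 fun q hq => by
    have : gY q ∈ (Set.range gY)ᶜ := hU ▸ hVU hq
    exact False.elim (this ⟨q, rfl⟩)
  refine ⟨V, fun i => res LX hVB (b i), fun _ => 0, hxV, hb.res' hVB, isNFrame_bot LY hbot _, fun i => ?_⟩
  have hW : fX ⁻¹ᵁ (gX ⁻¹ᵁ V) = ⊥ := by
    rw [preimage_eq fX fY gX gY hw, hbot]
    rfl
  unfold CompatPair
  exact eq_of_locally _ _ fun q hq => False.elim (show q ∈ (⊥ : Z.Opens) from hW ▸ hq)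

include hpo in
theorem isNFrame_glue (hLY : Coh.IsQCoh LY) {V : T.Opens} (m : Fin n → Γ(glue fX fY gX gY hw σ, V))
    (hx : IsNFrame (M := LX) (fun i => (prX fX fY gX gY hw σ).app V (m i)))
    (hy : IsNFrame (M := LY) (fun i => (prY fX fY gX gY hw σ).app V (m i))) : IsNFrame m := by
  intro V' h
  refine ⟨fun c c' hcc => ?_, fun t => ?_⟩
  · simp only at hcc
    have h1 := congrArg (fun t => (prX fX fY gX gY hw σ).app V' t) hcc
    have h2 := congrArg (fun t => (prY fX fY gX gY hw σ).app V' t) hcc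
    simp only [prX_comb, prY_comb] at h1 h2
    have h1' := (hx _ ((Opens.map gX.base).monotone h)).1
      (a₁ := fun i => gX.app V' (c i)) (a₂ := fun i => gX.app V' (c' i)) h1
    have h2' := (hy _ ((Opens.map gY.base).monotone h)).1
      (a₁ := fun i => gY.app V' (c i)) (a₂ := fun i => gY.app V' (c' i)) h2
    funext i
    exact sec_ext fX fY gX gY hpo _ _ (congrFun h1' i) (congrFun h2' i)
  · obtain ⟨a, ha⟩ := (hx _ ((Opens.map gX.base).monotone h)).2 ((prX fX fY gX gY hw σ).app V' t)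
    obtain ⟨b, hb⟩ := (hy _ ((Opens.map gY.base).monotone h)).2 ((prY fX fY gX gY hw σ).app V' t)
    simp only at ha hb
    have hct := prX_prY_compat fX fY gX gY hw σ V' t
    have hcm : ∀ i, CompatPair fX fY gX gY hw σ V'
        (res LX ((Opens.map gX.base).monotone h) ((prX fX fY gX gY hw σ).app V (m i)))
        (res LY ((Opens.map gY.base).monotone h) ((prY fX fY gX gY hw σ).app V (m i))) := fun i =>
      compatPair_res hw σ h (prX_prY_compat fX fY gX gY hw σ V (m i))
    let W := fX ⁻¹ᵁ (gX ⁻¹ᵁ V')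
    have hWY : W ≤ fY ⁻¹ᵁ (gY ⁻¹ᵁ V') := (preimage_eq fX fY gX gY hw V').le
    unfold CompatPair at hct hcm
    rw [← ha, ← hb, pullSec_comb, pullSec_comb, map_sum] at hct
    simp only [Scheme.Modules.Hom.app_smul, hcm] at hct
    have hfr := (isNFrame_pullSec fY hLY (hy.res' ((Opens.map gY.base).monotone h)) hWY W le_rfl).1
    have h2 := hfr (a₁ := fun i => fX.appLE (gX ⁻¹ᵁ V') W le_rfl (a i))
      (a₂ := fun i => fY.appLE (gY ⁻¹ᵁ V') W hWY (b i)) (by simpa only [res_self] using hct)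
    have hsec : ∀ i, ∃ r : Γ(T, V'), gX.app _ r = a i ∧ gY.app _ r = b i := fun i =>
      sec_exists fX fY gX gY hpo (a i) (b i) (preimage_eq fX fY gX gY hw _) (by
        have h3 := congrFun h2 i
        rw [← Scheme.Hom.app_eq_appLE] at h3
        exact h3.trans (by rw [Scheme.Hom.appLE, CommRingCat.comp_apply]; rfl))
    choose r hrX hrY using hsec
    refine ⟨r, glue_ext fX fY gX gY hw σ _ _ ?_ ?_⟩
    · refine (prX_comb fX fY gX gY hw σ h r m).trans (Eq.trans ?_ ha)
      exact Finset.sum_congr rfl fun i _ => by rw [hrX]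
    · refine (prY_comb fX fY gX gY hw σ h r m).trans (Eq.trans ?_ hb)
      exact Finset.sum_congr rfl fun i _ => by rw [hrY]

include hpo in
/-- Essential surjectivity. -/
theorem exists_glued [IsClosedImmersion fX] [IsClosedImmersion gY] [IsFinite gX]
    (U : T.Opens) (hU : (U : Set T) = (Set.range gY)ᶜ) (hiso : IsIso (gX ∣_ U))
    (hLX : FlatMod.IsFinLocFreeOfRank n LX) (hLY : FlatMod.IsFinLocFreeOfRank n LY) :
    ∃ (M : T.Modules) (eX : (Scheme.Modules.pullback gX).obj M ≅ LX)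
      (eY : (Scheme.Modules.pullback gY).obj M ≅ LY),
      FlatMod.IsFinLocFreeOfRank n M ∧
      (ExistEasy.squareIso hw).hom.app M ≫ (Scheme.Modules.pullback fY).map eY.hom =
        (Scheme.Modules.pullback fX).map eX.hom ≫ σ.hom := by
  have hqY : Coh.IsQCoh LY := QCoh.isQCoh_of_isFinLocFree (isFinLocFree_of_rank hLY)
  have hall : ∀ x' : T, HasFrames hw σ n x' := fun x' => by
    by_cases h : x' ∈ Set.range gY
    · obtain ⟨y, rfl⟩ := h
      exact hasFrames_mem hw hpo σ hLX hLY y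
    · exact hasFrames_off hw σ U hU hiso hLX x' (hU.ge h)
  have hfr : ∀ x' : T, ∃ (V : T.Opens) (m : Fin n → Γ(glue fX fY gX gY hw σ, V)), x' ∈ V ∧
      IsNFrame (M := LX) (fun i => (prX fX fY gX gY hw σ).app V (m i)) ∧
      IsNFrame (M := LY) (fun i => (prY fX fY gX gY hw σ).app V (m i)) ∧ IsNFrame m := fun x' => by
    obtain ⟨V, x, y, hxV, hx, hy, hc⟩ := hall x'
    choose m hmX hmY using fun i => glue_exists fX fY gX gY hw σ (x i) (y i) (hc i)
    have hx' : IsNFrame (M := LX) (fun i => (prX fX fY gX gY hw σ).app V (m i)) := by simpa only [hmX] using hx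
    have hy' : IsNFrame (M := LY) (fun i => (prY fX fY gX gY hw σ).app V (m i)) := by simpa only [hmY] using hy
    exact ⟨V, m, hxV, hx', hy', isNFrame_glue hw hpo σ hqY m hx' hy'⟩
  have hM : FlatMod.IsFinLocFreeOfRank n (glue fX fY gX gY hw σ) := isFinLocFreeOfRank_of_nframes fun x' =>
    let ⟨V, m, hxV, _, _, hm⟩ := hfr x'
    ⟨V, m, hxV, hm⟩
  have hq : Coh.IsQCoh (glue fX fY gX gY hw σ) := QCoh.isQCoh_of_isFinLocFree (isFinLocFree_of_rank hM)
  haveI : IsIso (eX fX fY gX gY hw σ) := isIso_of_nframes (n := n) _ fun p => by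
    obtain ⟨V, m, hxV, hx, -, hm⟩ := hfr (gX p)
    exact ⟨gX ⁻¹ᵁ V, fun i => QCoh.pullSec gX _ (le_refl _) (m i), hxV,
      isNFrame_pullSec gX hq hm (le_refl _), by simpa only [eX_pullSec] using hx⟩
  haveI : IsIso (eY fX fY gX gY hw σ) := isIso_of_nframes (n := n) _ fun p => by
    obtain ⟨V, m, hxV, -, hy, hm⟩ := hfr (gY p)
    exact ⟨gY ⁻¹ᵁ V, fun i => QCoh.pullSec gY _ (le_refl _) (m i), hxV,
      isNFrame_pullSec gY hq hm (le_refl _), by simpa only [eY_pullSec] using hy⟩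
  exact ⟨glue fX fY gX gY hw σ, asIso (eX fX fY gX gY hw σ), asIso (eY fX fY gX gY hw σ), hM,
    square fX fY gX gY hw σ (isFinLocFree_of_rank hM)⟩

end Groth.Agent.PinchEss
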